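import Mathlib.CategoryTheory.Monoidal.Cartesian.Grp

/-!
# Unital multiplications: the formal part
-/

set_option autoImplicit false

universe v u

open CategoryTheory MonoidalCategory CartesianMonoidalCategory

namespace Groth.Agent.AbRigid.Unital

variable {C : Type u} [Category.{v} C] [CartesianMonoidalCategory C] {X : C}

/-- The product of two points for a multiplication `m`. -/
abbrev op (m : X ⊗ X ⟶ X) {U : C} (a b : U ⟶ X) : U ⟶ X := lift a b ≫ m

/-- The constant point `e`. -/
abbrev unit (e : 𝟙_ C ⟶ X) (U : C) : U ⟶ X := toUnit U ≫ e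

/-- The shearing map `(x, y) ↦ (x, x y)`. -/
abbrev shear (m : X ⊗ X ⟶ X) : X ⊗ X ⟶ X ⊗ X := lift (fst X X) m

variable {e : 𝟙_ C ⟶ X} {m : X ⊗ X ⟶ X}

theorem comp_op {U V : C} (g : V ⟶ U) (a b : U ⟶ X) : g ≫ op m a b = op m (g ≫ a) (g ≫ b) := by
  simp [op, comp_lift_assoc]

theorem comp_unit {U V : C} (g : V ⟶ U) : g ≫ unit e U = unit e V := by
  simp [unit]

theorem unit_tensorUnit : unit e (𝟙_ C) = e := by
  rw [unit, toUnit_unique (toUnit (𝟙_ C)) (𝟙 _), Category.id_comp]

theorem op_unit (h₁ : lift (𝟙 X) (toUnit X ≫ e) ≫ m = 𝟙 X) {U : C} (a : U ⟶ X) :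
    op m a (unit e U) = a := by
  have := congrArg (a ≫ ·) h₁
  simpa [op, unit, comp_lift_assoc] using this

theorem unit_op (h₂ : lift (toUnit X ≫ e) (𝟙 X) ≫ m = 𝟙 X) {U : C} (a : U ⟶ X) :
    op m (unit e U) a = a := by
  have := congrArg (a ≫ ·) h₂
  simpa [op, unit, comp_lift_assoc] using this

theorem lift_shear {U : C} (a b : U ⟶ X) : lift a b ≫ shear m = lift a (op m a b) := by
  simp [shear, op, comp_lift]

theorem cancel [Mono (shear m)] {U : C} {a b b' : U ⟶ X} (h : op m a b = op m a b') : b = b' := by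
  have : lift a b ≫ shear m = lift a b' ≫ shear m := by rw [lift_shear, lift_shear, h]
  simpa using congrArg (· ≫ snd X X) ((cancel_mono _).mp this)

/-- A unital associative multiplication with invertible shearing map gives a group object. -/
theorem exists_grpObj [IsIso (shear m)] (h₁ : lift (𝟙 X) (toUnit X ≫ e) ≫ m = 𝟙 X)
    (h₂ : lift (toUnit X ≫ e) (𝟙 X) ≫ m = 𝟙 X)
    (hassoc : ∀ {U : C} (a b c : U ⟶ X), op m (op m a b) c = op m a (op m b c)) :
    ∃ h : GrpObj X, h.one = e ∧ h.mul = m := by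
  let i : X ⟶ X := lift (𝟙 X) (unit e X) ≫ inv (shear m) ≫ snd X X
  have hr : op m (𝟙 X) i = unit e X := by
    have hfst : inv (shear m) ≫ fst X X = fst X X := by
      rw [IsIso.inv_comp_eq]; simp [shear]
    have hm : inv (shear m) ≫ m = snd X X := by
      rw [IsIso.inv_comp_eq]; simp [shear]
    have hl : lift (𝟙 X) i = lift (𝟙 X) (unit e X) ≫ inv (shear m) := by
      refine CartesianMonoidalCategory.hom_ext _ _ ?_ ?_
      · rw [lift_fst, Category.assoc, hfst, lift_fst]
      · rw [lift_snd, Category.assoc]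
    rw [op, hl, Category.assoc, hm, lift_snd]
  have hl : op m i (𝟙 X) = unit e X := by
    have hii : op m i (i ≫ i) = unit e X := by
      have := congrArg (i ≫ ·) hr
      simpa only [comp_op, comp_unit, Category.comp_id] using this
    have hx : i ≫ i = 𝟙 X := by
      rw [← unit_op h₂ (i ≫ i), ← hr, hassoc, hii, op_unit h₁]
    rw [hx] at hii
    exact hii
  refine ⟨{ one := e, mul := m, one_mul := ?_, mul_one := ?_, mul_assoc := ?_, inv := i,
            left_inv := ?_, right_inv := ?_ }, rfl, rfl⟩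
  · have h : e ▷ X = lift (unit e (𝟙_ C ⊗ X)) (snd _ _) := by
      refine CartesianMonoidalCategory.hom_ext _ _ ?_ ?_
      · rw [whiskerRight_fst, lift_fst, unit, toUnit_unique (fst (𝟙_ C) X) (toUnit _)]
      · rw [whiskerRight_snd, lift_snd]
    rw [h, leftUnitor_hom]
    exact unit_op h₂ _
  · have h : X ◁ e = lift (fst _ _) (unit e (X ⊗ 𝟙_ C)) := by
      refine CartesianMonoidalCategory.hom_ext _ _ ?_ ?_
      · rw [whiskerLeft_fst, lift_fst]
      · rw [whiskerLeft_snd, lift_snd, unit, toUnit_unique (snd X (𝟙_ C)) (toUnit _)]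
    rw [h, rightUnitor_hom]
    exact op_unit h₁ _
  · have h3 : m ▷ X = lift (op m (fst _ _ ≫ fst X X) (fst _ _ ≫ snd X X)) (snd _ _) := by
      refine CartesianMonoidalCategory.hom_ext _ _ ?_ ?_
      · rw [whiskerRight_fst, lift_fst, ← comp_op, op, lift_fst_snd, Category.id_comp]
      · rw [whiskerRight_snd, lift_snd]
    have h4 : (α_ X X X).hom ≫ X ◁ m = lift (fst _ _ ≫ fst X X)
        (op m (fst _ _ ≫ snd X X) (snd _ _)) := by
      refine CartesianMonoidalCategory.hom_ext _ _ ?_ ?_
      · simp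
      · simp [op, ← associator_hom_snd_fst, ← associator_hom_snd_snd, ← comp_lift_assoc]
    rw [reassoc_of% h4, h3]
    exact hassoc _ _ _
  · exact hl
  · exact hr

end Groth.Agent.AbRigid.Unital
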