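import Groth.Agent.AbRigid.Rigid
import Groth.Agent.AbRigid.Unital.Alg
import Groth.Agent.FBase.BC
import Mathlib.AlgebraicGeometry.Properties
import Mathlib.AlgebraicGeometry.ZariskisMainTheorem
import Mathlib.AlgebraicGeometry.AlgClosed.Basic
import Mathlib.RingTheory.Ideal.KrullsHeightTheorem
import Mathlib.Topology.KrullDimension
import Groth.Agent.MonoVal.Immersion
import Groth.Agent.S16188

/-!
# Unital multiplications on a proper variety: translations are isomorphisms
-/

set_option autoImplicit false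
set_option backward.isDefEq.respectTransparency.types false

universe u

open CategoryTheory CategoryTheory.Limits MonoidalCategory CartesianMonoidalCategory AlgebraicGeometry
open TopologicalSpace Order

namespace Groth.Agent.AbRigid.Unital.Field

variable {K : Type u} [_root_.Field K] [IsAlgClosed K]

theorem coheight_lt_top {Y : Scheme.{u}} [IsLocallyNoetherian Y] (y : Y) : coheight y < ⊤ := by
  have h := ringKrullDim_lt_top (R := Y.presheaf.stalk y)
  rw [ringKrullDim_stalk_eq_coheight, show (⊤ : WithBot ℕ∞) = ((⊤ : ℕ∞) : WithBot ℕ∞) from rfl] at h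
  exact WithBot.coe_lt_coe.mp h

theorem geometricallyIntegral {Y : Scheme.{u}} (f : Y ⟶ Spec (CommRingCat.of K)) [IsIntegral Y] :
    GeometricallyIntegral f :=
  have := FBase.BC.geometricallyIrreducible_of_isSepClosed f
  have := FBase.BC.geometricallyReduced_of_isReduced_of_perfectField f
  GeometricallyIntegral.of_geometricallyReduced_of_geometricallyIrreducible f

/-- The unique point of `Spec K`. -/
abbrev pt : (𝟙_ (Over (Spec (CommRingCat.of K)))).left := IsLocalRing.closedPoint K

theorem hom_ext_pt {X : Over (Spec (CommRingCat.of K))} [LocallyOfFiniteType X.hom]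
    (a b : 𝟙_ (Over (Spec (CommRingCat.of K))) ⟶ X) (h : a.left pt = b.left pt) : a = b :=
  Over.OverMorphism.ext (ext_of_apply_closedPoint_eq X.hom (Over.w a) (Over.w b) h)

/-- A closed immersion of an irreducible Noetherian space into itself is surjective. -/
theorem surjective_of_endo {X : Scheme.{u}} [NoetherianSpace X] (f : X ⟶ X) [IsClosedImmersion f] :
    Surjective f := by
  by_contra hs
  let F : ℕ → Closeds X := fun n => ⟨Set.range (f^[n]), by
    induction n with
    | zero => simp
    | succ n ih =>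
      rw [Function.iterate_succ', Set.range_comp]
      exact f.isClosedMap _ ih⟩
  refine not_strictAnti_of_wellFoundedLT F (strictAnti_nat_of_succ_lt fun n => ?_)
  have hinj : Function.Injective (f^[n]) := f.isClosedEmbedding.injective.iterate n
  refine lt_of_le_of_ne ?_ fun he => hs ⟨fun x => ?_⟩
  · rintro _ ⟨x, rfl⟩
    exact ⟨f x, rfl⟩
  · obtain ⟨y, hy⟩ := (congrArg (fun C : Closeds X => (C : Set X)) he).ge ⟨x, rfl⟩
    exact ⟨y, hinj hy⟩

variable {X : Over (Spec (CommRingCat.of K))} [IsProper X.hom] [IsIntegral X.left]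
  {e : 𝟙_ (Over (Spec (CommRingCat.of K))) ⟶ X} {m : X ⊗ X ⟶ X}
  (h₁ : lift (𝟙 X) (toUnit X ≫ e) ≫ m = 𝟙 X) (h₂ : lift (toUnit X ≫ e) (𝟙 X) ≫ m = 𝟙 X)

instance : IsProper (X ⊗ X).hom := by
  rw [Over.tensorObj_hom]; infer_instance

omit [IsAlgClosed K] in
theorem isProper_left {A B : Over (Spec (CommRingCat.of K))} [IsProper A.hom] [IsProper B.hom]
    (f : A ⟶ B) : IsProper f.left := by
  have : IsProper (f.left ≫ B.hom) := by rw [Over.w f]; infer_instance
  exact IsProper.of_comp f.left B.hom

include h₂ in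
/-- The only point over the first coordinate `e` fixed by the shear is `(e, e)`. -/
theorem shear_apply_eq (w : (X ⊗ X).left) (hw : (fst X X).left w = e.left pt) :
    (shear m).left w = w := by
  obtain ⟨U, a, b, w', hab, ha, -⟩ := Rigid.exists_lift_point (fst X X) e w pt hw
  have h : a ≫ shear m = a := by
    have hm : a ≫ m = op m (a ≫ fst X X) (a ≫ snd X X) := by
      rw [← comp_op, op, lift_fst_snd, Category.id_comp]
    refine CartesianMonoidalCategory.hom_ext _ _ (by simp [shear]) ?_
    rw [Category.assoc, shear, lift_snd, hm, hab, toUnit_unique b (toUnit U), unit_op h₂]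
  rw [← ha, ← Scheme.Hom.comp_apply, ← Over.comp_left, h]

include h₂ in
/-- The shear is surjective. -/
theorem surjective_shear : Surjective (shear m).left := by
  have : GeometricallyIntegral X.hom := geometricallyIntegral X.hom
  have : IsLocallyNoetherian X.left := LocallyOfFiniteType.isLocallyNoetherian X.hom
  have : IsIntegral (X ⊗ X).left := inferInstanceAs (IsIntegral (pullback X.hom X.hom))
  have : IsLocallyNoetherian (X ⊗ X).left := LocallyOfFiniteType.isLocallyNoetherian (X ⊗ X).hom
  have := isProper_left (shear m)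
  let o : 𝟙_ (Over (Spec (CommRingCat.of K))) ⟶ X ⊗ X := lift e e
  let w₀ : (X ⊗ X).left := o.left pt
  have ho : o ≫ shear m = o := by
    rw [lift_shear]
    have := unit_op h₂ e
    rw [unit_tensorUnit] at this
    rw [this]
  have hw₀ : (shear m).left w₀ = w₀ := by
    rw [← Scheme.Hom.comp_apply, ← Over.comp_left, ho]
  have hfib : ∀ w, (shear m).left w = w₀ → w = w₀ := fun w hw => by
    have h1 : (fst X X).left w = e.left pt := by
      have e1 : shear m ≫ fst X X = fst X X := by simp [shear]
      have e2 : o ≫ fst X X = e := by simp [o]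
      rw [← e1, Over.comp_left, Scheme.Hom.comp_apply, hw, ← Scheme.Hom.comp_apply, ← Over.comp_left, e2]
    rw [← shear_apply_eq h₂ w h1, hw]
  have hqf : (shear m).left.QuasiFiniteAt w₀ := by
    rw [Scheme.Hom.quasiFiniteAt_iff_isOpen_singleton_asFiber,
      ← ((shear m).left.fiberHomeo ((shear m).left w₀)).isOpen_image]
    have : Subsingleton ↥((shear m).left ⁻¹' {(shear m).left w₀}) := ⟨fun a b =>
      Subtype.ext ((hfib _ (a.2.trans hw₀)).trans (hfib _ (b.2.trans hw₀)).symm)⟩
    exact isOpen_discrete _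
  by_contra hs
  let ξ := genericPoint (X ⊗ X).left
  have hξ : ∀ a, (shear m).left a ≠ ξ := fun a ha => hs ⟨fun y => by
    have h2 : ({ξ} : Set (X ⊗ X).left) ⊆ Set.range (shear m).left := Set.singleton_subset_iff.mpr ⟨a, ha⟩
    exact (shear m).left.isClosedMap.isClosed_range.closure_subset
      (closure_mono h2 (specializes_iff_mem_closure.mp (genericPoint_specializes y)))⟩
  obtain ⟨n, hn⟩ := ENat.ne_top_iff_exists.mp (coheight_lt_top w₀).ne
  obtain ⟨p, hp, hlen⟩ := exists_series_of_le_coheight w₀ hn.le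
  have hU : ∀ i, (shear m).left.QuasiFiniteAt (p i) := fun i => by
    have h0 : p i ⤳ w₀ := hp ▸ (show p i ⤳ p 0 from p.monotone (Fin.zero_le i))
    exact h0.mem_open (shear m).left.isOpen_quasiFiniteAt hqf
  have hstep : StrictMono fun i => (shear m).left (p i) := by
    intro i j hij
    have hab := p.strictMono hij
    have hsp : (shear m).left (p j) ⤳ (shear m).left (p i) :=
      (show p j ⤳ p i from hab.le).map (shear m).left.continuous
    refine lt_iff_le_not_ge.mpr ⟨hsp, fun hba => ?_⟩
    have he : (shear m).left (p j) = (shear m).left (p i) :=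
      (hsp.antisymm (show (shear m).left (p i) ⤳ (shear m).left (p j) from hba)).eq
    have ho := (Scheme.Hom.quasiFiniteAt_iff_isOpen_singleton_asFiber.mp (hU i))
    rw [← ((shear m).left.fiberHomeo ((shear m).left (p i))).isOpen_image] at ho
    obtain ⟨O, hO, hOeq⟩ := isOpen_induced_iff.mp ho
    simp only [Scheme.Hom.asFiber, Set.image_singleton, Homeomorph.apply_symm_apply] at hOeq
    have hiO : p i ∈ O := by
      have : (⟨p i, rfl⟩ : ↥((shear m).left ⁻¹' {(shear m).left (p i)})) ∈ Subtype.val ⁻¹' O :=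
        hOeq ▸ rfl
      exact this
    have hjO : p j ∈ O := (show p j ⤳ p i from hab.le).mem_open hO hiO
    have : (⟨p j, he⟩ : ↥((shear m).left ⁻¹' {(shear m).left (p i)})) ∈ ({⟨p i, rfl⟩} : Set _) :=
      hOeq ▸ hjO
    exact hab.ne (congrArg Subtype.val this).symm
  let q : LTSeries ↥(X ⊗ X).left := LTSeries.mk p.length _ hstep
  have hlast : q.last < ξ := by
    refine lt_iff_le_not_ge.mpr ⟨genericPoint_specializes _, fun h => ?_⟩
    exact hξ p.last ((show (shear m).left p.last ⤳ ξ from h).antisymm (genericPoint_specializes _)).eq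
  have := length_le_coheight (p := q.snoc ξ hlast) (x := w₀)
    (by rw [RelSeries.head_snoc]; exact le_of_eq ((congrArg _ hp).trans hw₀).symm)
  rw [← hn] at this
  simp [q, hlen] at this
  norm_cast at this
  omega

include h₁ h₂ in
/-- Left translations by points are isomorphisms. -/
theorem isIso_translation (a : 𝟙_ (Over (Spec (CommRingCat.of K))) ⟶ X) :
    IsIso (op m (toUnit X ≫ a) (𝟙 X)).left := by
  have : GeometricallyIntegral X.hom := geometricallyIntegral X.hom
  have : IsLocallyNoetherian X.left := LocallyOfFiniteType.isLocallyNoetherian X.hom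
  have : JacobsonSpace ↥X.left := LocallyOfFiniteType.jacobsonSpace X.hom
  have : CompactSpace X.left := QuasiCompact.compactSpace_of_compactSpace X.hom
  have : IsNoetherian X.left := ⟨⟩
  have := surjective_shear h₂
  let ε : X ⟶ X ⊗ X := lift (𝟙 X) (unit e X)
  have hεp := isProper_left ε
  have hΦp := isProper_left (shear m)
  obtain ⟨ξ', hξ'⟩ := (shear m).left.surjective (ε.left (genericPoint X.left))
  obtain ⟨ξ, hξ₁, hξ₂⟩ := Scheme.Pullback.exists_preimage_pullback (f := (shear m).left) (g := ε.left)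
    ξ' (genericPoint X.left) hξ'
  let I := Scheme.IdealSheafData.vanishingIdeal (X := pullback (shear m).left ε.left)
    ⟨closure {ξ}, isClosed_closure⟩
  have : IsIntegral I.subscheme := S16188.isIntegral_subscheme _ isIrreducible_singleton.closure
  have hr : Set.range I.subschemeι = closure {ξ} := by
    rw [Scheme.IdealSheafData.range_subschemeι, Scheme.IdealSheafData.coe_support_vanishingIdeal]
    rfl
  let Γ' : Over (Spec (CommRingCat.of K)) :=
    Over.mk ((I.subschemeι ≫ pullback.fst (shear m).left ε.left) ≫ (X ⊗ X).hom)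
  let j : Γ' ⟶ X ⊗ X := Over.homMk (I.subschemeι ≫ pullback.fst (shear m).left ε.left) rfl
  let c : Γ' ⟶ X := Over.homMk (I.subschemeι ≫ pullback.snd (shear m).left ε.left) (by
    show _ = (I.subschemeι ≫ pullback.fst (shear m).left ε.left) ≫ (X ⊗ X).hom
    rw [← Over.w (shear m), Category.assoc, Category.assoc, pullback.condition_assoc, Over.w ε])
  have hjc : j ≫ shear m = c ≫ ε := Over.OverMorphism.ext (by
    show (I.subschemeι ≫ pullback.fst _ _) ≫ (shear m).left = (I.subschemeι ≫ pullback.snd _ _) ≫ ε.left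
    rw [Category.assoc, pullback.condition, Category.assoc])
  have hjfst : j ≫ fst X X = c := by
    simpa [shear, ε] using congrArg (· ≫ fst X X) hjc
  have hjm : op m c (j ≫ snd X X) = unit e Γ' := by
    have hm : j ≫ m = unit e Γ' := by
      simpa [shear, ε, unit] using congrArg (· ≫ snd X X) hjc
    rw [← hm, ← hjfst, ← comp_op, op, lift_fst_snd, Category.id_comp]
  have : IsProper Γ'.hom :=
    inferInstanceAs (IsProper ((I.subschemeι ≫ pullback.fst (shear m).left ε.left) ≫ (X ⊗ X).hom))
  have : IsIntegral Γ'.left := ‹IsIntegral I.subscheme›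
  have : JacobsonSpace ↥Γ'.left := LocallyOfFiniteType.jacobsonSpace Γ'.hom
  have : IsLocallyNoetherian Γ'.left := LocallyOfFiniteType.isLocallyNoetherian Γ'.hom
  have : GeometricallyIntegral Γ'.hom := geometricallyIntegral Γ'.hom
  have : GeometricallyConnected Γ'.hom := Rigid.geometricallyConnected_of_integral Γ'.hom
  have hcp := isProper_left c
  have hcs : Surjective c.left := ⟨fun y => by
    obtain ⟨g, hg⟩ := hr.ge (subset_closure rfl : ξ ∈ closure {ξ})
    have h2 : ({genericPoint X.left} : Set X.left) ⊆ Set.range c.left :=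
      Set.singleton_subset_iff.mpr ⟨g, by
        show (I.subschemeι ≫ pullback.snd _ _) g = _
        rw [Scheme.Hom.comp_apply, hg, hξ₂]⟩
    exact c.left.isClosedMap.isClosed_range.closure_subset
      (closure_mono h2 (specializes_iff_mem_closure.mp (genericPoint_specializes y)))⟩
  have hlift : ∀ a : 𝟙_ (Over (Spec (CommRingCat.of K))) ⟶ X,
      ∃ γ : 𝟙_ (Over (Spec (CommRingCat.of K))) ⟶ Γ', γ ≫ c = a := by
    intro a
    have hac : IsClosed {a.left pt} :=
      ((pointEquivClosedPoint X.hom) ⟨a.left, Over.w a⟩).2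
    obtain ⟨x, hx⟩ := c.left.surjective (a.left pt)
    obtain ⟨γ₀, hγ₀, hγ₀c⟩ := nonempty_inter_closedPoints (Z := c.left ⁻¹' {a.left pt})
      ⟨x, hx⟩ (hac.preimage c.left.continuous).isLocallyClosed
    refine ⟨Over.homMk (pointOfClosedPoint Γ'.hom γ₀ hγ₀c) (pointOfClosedPoint_comp Γ'.hom γ₀ hγ₀c), hom_ext_pt _ _ ?_⟩
    rw [Over.comp_left, Scheme.Hom.comp_apply]
    show c.left (pointOfClosedPoint Γ'.hom γ₀ hγ₀c pt) = _
    rw [pointOfClosedPoint_apply]
    exact hγ₀
  obtain ⟨γe, hγe⟩ := hlift e
  have hγv : γe ≫ j ≫ snd X X = e := by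
    have h := congrArg (γe ≫ ·) hjm
    simp only [comp_op, comp_unit, hγe, unit_tensorUnit] at h
    have h' := unit_op h₂ (γe ≫ j ≫ snd X X)
    rw [unit_tensorUnit] at h'
    exact h'.symm.trans h
  -- rigidity along the projection `Γ' ⊗ X ⟶ X`
  have : LocallyOfFinitePresentation Γ'.hom :=
    MonoVal.locallyOfFinitePresentation_of_lft Γ'.hom
  have hgl : (snd Γ' X).left = pullback.snd Γ'.hom X.hom := rfl
  have : IsProper (snd Γ' X).left := hgl ▸ inferInstance
  have : Flat (snd Γ' X).left := hgl ▸ inferInstance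
  have : LocallyOfFinitePresentation (snd Γ' X).left := hgl ▸ inferInstance
  have : GeometricallyConnected (snd Γ' X).left := hgl ▸ inferInstance
  have : GeometricallyReduced (snd Γ' X).left := hgl ▸ inferInstance
  let ψ : Γ' ⊗ X ⟶ X := op m (fst _ _ ≫ c) (op m (fst _ _ ≫ j ≫ snd X X) (snd _ _))
  let σ : X ⟶ Γ' ⊗ X := lift (toUnit X ≫ γe) (𝟙 X)
  have hψ := Rigid.eq_of_collapse (snd Γ' X) σ (by simp [σ]) ψ e e (fun a b hab => by
    rw [toUnit_unique b (toUnit _)] at hab
    simp only [ψ, comp_op, hab]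
    rw [op_unit h₁]
    have := congrArg ((a ≫ fst Γ' X) ≫ ·) hjm
    simpa [comp_op, comp_unit] using this) (fun t => ⟨pt, Set.univ, (PreirreducibleSpace.isPreirreducible_univ (X := X.left)).isPreconnected, trivial, trivial⟩)
  have hσψ : σ ≫ ψ = 𝟙 X := by
    simp only [ψ, σ, comp_op, lift_fst_assoc, lift_snd, Category.assoc, hγe, hγv]
    rw [unit_op h₂, unit_op h₂]
  rw [hσψ, Category.comp_id] at hψ
  -- every translation has a right inverse translation
  have hinv : ∀ a : 𝟙_ (Over (Spec (CommRingCat.of K))) ⟶ X, ∃ v,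
      op m (toUnit X ≫ v) (𝟙 X) ≫ op m (toUnit X ≫ a) (𝟙 X) = 𝟙 X := by
    intro a
    obtain ⟨γ, hγ⟩ := hlift a
    refine ⟨γ ≫ j ≫ snd X X, ?_⟩
    have h := congrArg (lift (toUnit X ≫ γ) (𝟙 X) ≫ ·) hψ
    simp only [ψ, comp_op, lift_fst_assoc, lift_snd, Category.assoc, hγ] at h
    rw [comp_op, Category.comp_id, ← Category.assoc, toUnit_unique (_ ≫ toUnit X) (toUnit X)]
    exact h
  obtain ⟨v, hv⟩ := hinv a
  have hv' : (op m (toUnit X ≫ v) (𝟙 X)).left ≫ (op m (toUnit X ≫ a) (𝟙 X)).left = 𝟙 X.left :=
    congrArg CommaMorphism.left hv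
  have : IsClosedImmersion ((op m (toUnit X ≫ v) (𝟙 X)).left ≫ (op m (toUnit X ≫ a) (𝟙 X)).left) := by
    rw [hv']; infer_instance
  have := isProper_left (op m (toUnit X ≫ a) (𝟙 X))
  have := IsClosedImmersion.of_comp (op m (toUnit X ≫ v) (𝟙 X)).left (op m (toUnit X ≫ a) (𝟙 X)).left
  have := surjective_of_endo (op m (toUnit X ≫ v) (𝟙 X)).left
  have := isIso_of_isClosedImmersion_of_surjective (op m (toUnit X ≫ v) (𝟙 X)).left
  exact IsIso.of_isIso_fac_left hv'

end Groth.Agent.AbRigid.Unital.Field
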